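import Groth.Agent.H19Alb.Open
import Groth.Agent.H21Fix.EssFree
import Groth.Agent.H20EssFree.Basic

/-!
# The kernel of the largest proper quotient of the identity component is normal in the whole group
-/

set_option autoImplicit false
set_option linter.style.haveILetI false
set_option backward.isDefEq.respectTransparency false
set_option maxHeartbeats 1000000
set_option synthInstance.maxHeartbeats 400000
universe u

open CategoryTheory CategoryTheory.Limits MonoidalCategory CartesianMonoidalCategory MonObj AlgebraicGeometry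
open Groth.Agent Groth.Agent.H25AbCube Groth.Agent.H19Quot

noncomputable section

namespace Groth.Agent.H19Alb

attribute [local instance] Functor.grpObjObj

section adj

variable {k K : Type u} [Field k] [Field K] [Algebra k K]

/-- A scheme over the big field seen over the small one. -/
abbrev res (T : Over (Spec (CommRingCat.of K))) : Over (Spec (CommRingCat.of k)) :=
  (Over.map (GeomTate.σ k K)).obj T

/-- Points of the base change. -/
def pts (T : Over (Spec (CommRingCat.of K))) (X : Over (Spec (CommRingCat.of k))) :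
    (res (k := k) T ⟶ X) ≃ (T ⟶ (GeomTate.bc k K).obj X) :=
  (Over.mapPullbackAdj (GeomTate.σ k K)).homEquiv T X

theorem pts_comp {T : Over (Spec (CommRingCat.of K))} {X Y : Over (Spec (CommRingCat.of k))} (a : res T ⟶ X)
    (f : X ⟶ Y) : pts T Y (a ≫ f) = pts T X a ≫ (GeomTate.bc k K).map f :=
  Adjunction.homEquiv_naturality_right _ _ _

theorem pts_symm_map {T : Over (Spec (CommRingCat.of K))} {X Y : Over (Spec (CommRingCat.of k))}
    (x : T ⟶ (GeomTate.bc k K).obj X) (f : X ⟶ Y) :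
    (pts T Y).symm (x ≫ (GeomTate.bc k K).map f) = (pts T X).symm x ≫ f :=
  Adjunction.homEquiv_naturality_right_symm _ _ _

theorem pts_symm_left {T T' : Over (Spec (CommRingCat.of K))} {X : Over (Spec (CommRingCat.of k))} (t : T' ⟶ T)
    (x : T ⟶ (GeomTate.bc k K).obj X) :
    (pts T' X).symm (t ≫ x) = (Over.map (GeomTate.σ k K)).map t ≫ (pts T X).symm x :=
  Adjunction.homEquiv_naturality_left_symm _ _ _

theorem pts_mul {T : Over (Spec (CommRingCat.of K))} {X : Over (Spec (CommRingCat.of k))} [GrpObj X]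
    (a b : res (k := k) T ⟶ X) : pts T X (a * b) = pts T X a * pts T X b := by
  show (Over.mapPullbackAdj _).homEquiv _ _ (a * b) =
    (Over.mapPullbackAdj _).homEquiv _ _ a * (Over.mapPullbackAdj _).homEquiv _ _ b
  rw [Adjunction.homEquiv_unit, Adjunction.homEquiv_unit, Adjunction.homEquiv_unit]
  exact (congrArg _ (map_mul (Functor.homMonoidHom (GeomTate.bc k K)) _ _)).trans (MonObj.comp_mul _ _ _)

theorem pts_symm_mul {T : Over (Spec (CommRingCat.of K))} {X : Over (Spec (CommRingCat.of k))} [GrpObj X]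
    (x y : T ⟶ (GeomTate.bc k K).obj X) : (pts T X).symm (x * y) = (pts T X).symm x * (pts T X).symm y := by
  rw [Equiv.symm_apply_eq, pts_mul, Equiv.apply_symm_apply, Equiv.apply_symm_apply]

theorem pts_symm_one {T : Over (Spec (CommRingCat.of K))} {X : Over (Spec (CommRingCat.of k))} [GrpObj X] :
    (pts T X).symm 1 = 1 := by
  have h := pts_symm_mul (X := X) (1 : T ⟶ (GeomTate.bc k K).obj X) 1
  rw [_root_.one_mul] at h
  exact mul_eq_left.1 h.symm

theorem pts_one {T : Over (Spec (CommRingCat.of K))} {X : Over (Spec (CommRingCat.of k))} [GrpObj X] :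
    pts (k := k) T X 1 = 1 := by
  rw [← pts_symm_one (T := T) (X := X), Equiv.apply_symm_apply]

theorem pts_symm_inv {T : Over (Spec (CommRingCat.of K))} {X : Over (Spec (CommRingCat.of k))} [GrpObj X]
    (x : T ⟶ (GeomTate.bc k K).obj X) : (pts T X).symm x⁻¹ = ((pts T X).symm x)⁻¹ := by
  rw [eq_inv_iff_mul_eq_one, ← pts_symm_mul, inv_mul_cancel, pts_symm_one]

theorem pts_symm_apply_left {T : Over (Spec (CommRingCat.of K))} {X : Over (Spec (CommRingCat.of k))}
    (x : T ⟶ (GeomTate.bc k K).obj X) :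
    ((pts T X).symm x).left = x.left ≫ pullback.fst X.hom (GeomTate.σ k K) := by
  simp [pts, Adjunction.homEquiv_counit]

theorem map_fst {X Y : Over (Spec (CommRingCat.of k))} (f : X ⟶ Y) :
    ((GeomTate.bc k K).map f).left ≫ pullback.fst Y.hom (GeomTate.σ k K) =
      pullback.fst X.hom (GeomTate.σ k K) ≫ f.left := by
  simp [Over.pullback_map_left]

/-- A morphism given on points by a homomorphism is a homomorphism. -/
theorem isMonHom_of_pts {S : Scheme.{u}} {X Y : Over S} [GrpObj X] [GrpObj Y] (f : X ⟶ Y)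
    (h : ∀ (T : Over S) (a b : T ⟶ X), (a * b) ≫ f = (a ≫ f) * (b ≫ f)) : IsMonHom f := by
  refine ⟨?_, ?_⟩
  · have e : ∀ (Z : Over S) [GrpObj Z], η[Z] = (1 : 𝟙_ _ ⟶ Z) := fun Z _ => by
      rw [Hom.one_def, toUnit_unique (toUnit _) (𝟙 _), Category.id_comp]
    rw [e X, e Y]
    have h1 := h _ (1 : 𝟙_ _ ⟶ X) 1
    rw [_root_.one_mul] at h1
    exact mul_eq_left.1 h1.symm
  · have hμ : μ[X] = fst X X * snd X X := by rw [Hom.mul_def, lift_fst_snd, Category.id_comp]
    rw [hμ, h, show (f ⊗ₘ f) ≫ μ[Y] = (fst X X ≫ f) * (snd X X ≫ f) by rw [Hom.mul_def, lift_fst_comp_snd_comp]]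

end adj

variable {k : Type u} [Field k] {G G₀ A : Over (Spec (CommRingCat.of k))} [GrpObj G] [GrpObj G₀] [GrpObj A]

/-- Conjugation on a normal subgroup. -/
structure Conj (i₀ : G₀ ⟶ G) where
  /-- the morphism -/
  c : G ⊗ G₀ ⟶ G₀
  fac : ∀ {T : Over (Spec (CommRingCat.of k))} (h : T ⟶ G) (a : T ⟶ G₀),
    (lift h a ≫ c) ≫ i₀ = h * (a ≫ i₀) * h⁻¹

namespace Conj

variable {i₀ : G₀ ⟶ G} (C : Conj i₀)

/-- The conjugate of a point. -/
def cj {T : Over (Spec (CommRingCat.of k))} (h : T ⟶ G) (a : T ⟶ G₀) : T ⟶ G₀ := lift h a ≫ C.c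

theorem comp_cj {T T' : Over (Spec (CommRingCat.of k))} (t : T' ⟶ T) (h : T ⟶ G) (a : T ⟶ G₀) :
    t ≫ C.cj h a = C.cj (t ≫ h) (t ≫ a) := by
  rw [cj, cj, comp_lift_assoc]

theorem cj_fac {T : Over (Spec (CommRingCat.of k))} (h : T ⟶ G) (a : T ⟶ G₀) :
    C.cj h a ≫ i₀ = h * (a ≫ i₀) * h⁻¹ := C.fac h a

variable [IsMonHom i₀] [Mono i₀]

theorem cj_mul {T : Over (Spec (CommRingCat.of k))} (h : T ⟶ G) (a b : T ⟶ G₀) :
    C.cj h (a * b) = C.cj h a * C.cj h b := by
  rw [← cancel_mono i₀, MonObj.mul_comp, cj_fac, cj_fac, cj_fac, MonObj.mul_comp]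
  group

theorem cj_cj {T : Over (Spec (CommRingCat.of k))} (h h' : T ⟶ G) (a : T ⟶ G₀) :
    C.cj h (C.cj h' a) = C.cj (h * h') a := by
  rw [← cancel_mono i₀, cj_fac, cj_fac, cj_fac]
  group

theorem cj_incl {T : Over (Spec (CommRingCat.of k))} (g a : T ⟶ G₀) :
    C.cj (g ≫ i₀) a = g * a * g⁻¹ := by
  rw [← cancel_mono i₀, cj_fac, MonObj.mul_comp, MonObj.mul_comp, GrpObj.inv_comp]

theorem cj_inv {T : Over (Spec (CommRingCat.of k))} (h : T ⟶ G) (a : T ⟶ G₀) :
    C.cj h a⁻¹ = (C.cj h a)⁻¹ := by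
  rw [← cancel_mono i₀, GrpObj.inv_comp, cj_fac, cj_fac, GrpObj.inv_comp]
  group

theorem cj_one {T : Over (Spec (CommRingCat.of k))} (h : T ⟶ G) : C.cj h 1 = 1 := by
  rw [← cancel_mono i₀, cj_fac, MonObj.one_comp, _root_.mul_one, mul_inv_cancel]

end Conj

theorem nonempty_conj (i₀ : G₀ ⟶ G) (h : AlgGrp.IsNormalHom i₀) : Nonempty (Conj i₀) := by
  obtain ⟨c, hc⟩ := h _ (fst G G₀) (snd G G₀)
  refine ⟨⟨c, fun {T} g a => ?_⟩⟩
  rw [Category.assoc, ← hc, MonObj.comp_mul, MonObj.comp_mul, GrpObj.comp_inv, lift_fst, lift_snd_assoc]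

section killed

variable {K : Type u} [Field K] [Algebra k K] {i₀ : G₀ ⟶ G} [IsMonHom i₀] [Mono i₀]

/-- Finitely many conjugates of a homomorphism, gathered into a homomorphism to a proper group. -/
theorem exists_gathered [IsProper A.hom] (C : Conj i₀) (α : G₀ ⟶ A) [IsMonHom α]
    (s : Finset (𝟙_ (Over (Spec (CommRingCat.of K))) ⟶ (GeomTate.bc k K).obj G)) :
    ∃ (P : Over (Spec (CommRingCat.of K))) (_ : GrpObj P) (f : (GeomTate.bc k K).obj G₀ ⟶ P), IsMonHom f ∧
      IsProper P.hom ∧ ∀ (T : Over (Spec (CommRingCat.of K))) (x : T ⟶ (GeomTate.bc k K).obj G₀),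
        x ≫ f = 1 ↔ (pts T G₀).symm x ≫ α = 1 ∧
          ∀ g ∈ s, C.cj ((pts T G).symm (toUnit T ≫ g)) ((pts T G₀).symm x) ≫ α = 1 := by
  classical
  induction s using Finset.induction_on with
  | empty =>
    refine ⟨(GeomTate.bc k K).obj A, inferInstance, (GeomTate.bc k K).map α, inferInstance,
      GeomTate.isProper_bc A, fun T x => ⟨fun h => ⟨?_, by simp⟩, fun h => ?_⟩⟩
    · rw [← pts_symm_map, h, pts_symm_one]
    · apply (pts T A).symm.injective
      rw [pts_symm_map, pts_symm_one, h.1]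
  | @insert g s _ ih =>
    obtain ⟨P, gP, f, hf, hP, hchar⟩ := ih
    haveI := hf; haveI := hP
    let F := GeomTate.bc k K
    let fg : F.obj G₀ ⟶ F.obj A :=
      pts (F.obj G₀) A (C.cj ((pts _ G).symm (toUnit (F.obj G₀) ≫ g)) ((pts _ G₀).symm (𝟙 _)) ≫ α)
    have hfg : ∀ (T : Over (Spec (CommRingCat.of K))) (x : T ⟶ F.obj G₀), (pts T A).symm (x ≫ fg) =
        C.cj ((pts T G).symm (toUnit T ≫ g)) ((pts T G₀).symm x) ≫ α := fun T x => by
      rw [pts_symm_left, Equiv.symm_apply_apply, ← Category.assoc, C.comp_cj, ← pts_symm_left, ← pts_symm_left,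
        Category.comp_id, ← Category.assoc x, comp_toUnit]
    haveI : IsMonHom fg := isMonHom_of_pts fg fun T a b => by
      apply (pts T A).symm.injective
      rw [hfg, pts_symm_mul, pts_symm_mul, C.cj_mul, MonObj.mul_comp, hfg, hfg]
    haveI : IsProper (F.obj A).hom := GeomTate.isProper_bc A
    refine ⟨P ⊗ F.obj A, inferInstance, lift f fg, inferInstance, ?_, fun T x => ?_⟩
    · show IsProper (pullback.fst P.hom (F.obj A).hom ≫ P.hom); infer_instance
    · have h2 : x ≫ lift f fg = 1 ↔ x ≫ f = 1 ∧ x ≫ fg = 1 := by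
        constructor
        · intro h
          have e1 := congrArg (· ≫ fst P (F.obj A)) h
          have e2 := congrArg (· ≫ snd P (F.obj A)) h
          simp only [Category.assoc, lift_fst, lift_snd, MonObj.one_comp] at e1 e2
          exact ⟨e1, e2⟩
        · rintro ⟨e1, e2⟩
          apply CartesianMonoidalCategory.hom_ext
          · rw [Category.assoc, lift_fst, e1, MonObj.one_comp]
          · rw [Category.assoc, lift_snd, e2, MonObj.one_comp]
      have h3 : x ≫ fg = 1 ↔ C.cj ((pts T G).symm (toUnit T ≫ g)) ((pts T G₀).symm x) ≫ α = 1 := by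
        rw [← hfg, ← (pts T A).symm.injective.eq_iff, pts_symm_one]
      rw [h2, h3, hchar, Finset.forall_mem_insert, and_assoc]
      exact and_congr_right fun _ => and_comm

/-- If finitely many conjugates of a point are killed, all its conjugates are. -/
theorem cj_killed (C : Conj i₀) (α : G₀ ⟶ A) [IsMonHom α] [IsOpenImmersion i₀.left]
    (s : Finset (𝟙_ (Over (Spec (CommRingCat.of K))) ⟶ (GeomTate.bc k K).obj G))
    (hcov : ∀ p : ((GeomTate.bc k K).obj G).left, ∃ g ∈ s,
      (𝟙 _ * (toUnit _ ≫ g⁻¹) : (GeomTate.bc k K).obj G ⟶ _).left p ∈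
        Set.range ((GeomTate.bc k K).map i₀).left)
    (T : Over (Spec (CommRingCat.of K))) (y : res T ⟶ G₀)
    (hy : ∀ g ∈ s, C.cj ((pts T G).symm (toUnit T ≫ g)) y ≫ α = 1) (h : res T ⟶ G) :
    C.cj h y ≫ α = 1 := by
  let F := GeomTate.bc k K
  let H := pts T G h
  choose g hg hgm using fun p : T.left => hcov (H.left p)
  apply Over.OverMorphism.ext
  let h' : T.left → (res (k := k) T ⟶ G) := fun p => h * ((pts T G).symm (toUnit T ≫ g p))⁻¹
  have hV : ∀ p : T.left, (h' p).left p ∈ Set.range i₀.left := fun p => by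
    have e1 : h' p = (pts T G).symm (H ≫ (𝟙 (F.obj G) * (toUnit _ ≫ (g p)⁻¹))) := by
      rw [MonObj.comp_mul, Category.comp_id, ← Category.assoc H, comp_toUnit, GrpObj.comp_inv, pts_symm_mul,
        pts_symm_inv, Equiv.symm_apply_apply]
    obtain ⟨z, hz⟩ := hgm p
    refine ⟨pullback.fst G₀.hom (GeomTate.σ k K) z, ?_⟩
    rw [e1, pts_symm_apply_left, Over.comp_left, Scheme.Hom.comp_apply, Scheme.Hom.comp_apply,
      ← Scheme.Hom.comp_apply, ← map_fst, Scheme.Hom.comp_apply]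
    exact congrArg _ hz
  let V : T.left → T.left.Opens := fun p =>
    ⟨(h' p).left ⁻¹' Set.range i₀.left, i₀.left.isOpenEmbedding.isOpen_range.preimage (h' p).left.continuous⟩
  have htop : ⨆ p, V p = ⊤ := eq_top_iff.2 fun p _ => TopologicalSpace.Opens.mem_iSup.2 ⟨p, hV p⟩
  refine (T.left.openCoverOfIsOpenCover V htop).hom_ext _ _ fun p => ?_
  let W : Over (Spec (CommRingCat.of k)) := Over.mk ((V p).ι ≫ (res (k := k) T).hom)
  let w : W ⟶ res T := Over.homMk (V p).ι rfl
  have hsub : Set.range (w ≫ h' p).left ⊆ Set.range i₀.left := by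
    rintro _ ⟨q, rfl⟩
    exact q.2
  obtain ⟨a, ha⟩ : ∃ a : W ⟶ G₀, a ≫ i₀ = w ≫ h' p := by
    refine ⟨Over.homMk (IsOpenImmersion.lift i₀.left (w ≫ h' p).left hsub) ?_, ?_⟩
    · rw [← Over.w i₀, ← Category.assoc, IsOpenImmersion.lift_fac, Over.w (w ≫ h' p)]
    · exact Over.OverMorphism.ext (IsOpenImmersion.lift_fac _ _ _)
  have hh : w ≫ h = (a ≫ i₀) * (w ≫ (pts T G).symm (toUnit T ≫ g p)) := by
    rw [ha, MonObj.comp_mul, GrpObj.comp_inv, inv_mul_cancel_right]
  have hw : w ≫ C.cj h y ≫ α = w ≫ 1 := by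
    rw [← Category.assoc, C.comp_cj, hh, ← C.cj_cj, C.cj_incl, MonObj.mul_comp, MonObj.mul_comp,
      GrpObj.inv_comp, ← C.comp_cj, Category.assoc, hy _ (hg p), MonObj.comp_one,
      _root_.mul_one, mul_inv_cancel]
  exact congrArg Over.Hom.left hw

end killed

variable [LocallyOfFiniteType G.hom] [QuasiCompact G.hom]

/-- The largest subscheme of the kernel all whose conjugates stay in the kernel, as a normal subgroup. -/
theorem exists_core [IsProper A.hom] (i₀ : G₀ ⟶ G) [IsMonHom i₀] [Mono i₀] (C : Conj i₀) (α : G₀ ⟶ A) [IsMonHom α]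
    {N : Over (Spec (CommRingCat.of k))} [GrpObj N] (j : N ⟶ G₀) [IsMonHom j] [IsClosedImmersion j.left]
    (hN : AlgGrp.IsKernel j α) :
    ∃ (Z : Over (Spec (CommRingCat.of k))) (_ : GrpObj Z) (z : Z ⟶ N), IsMonHom (z ≫ j) ∧
      IsClosedImmersion (z ≫ j).left ∧ AlgGrp.IsNormalHom (z ≫ j) ∧
      ∀ {X : Over (Spec (CommRingCat.of k))} (g : X ⟶ N), (∃ w : X ⟶ Z, w ≫ z = g) ↔
        ∀ (X' : Over (Spec (CommRingCat.of k))) (x : X' ⟶ X) (hh : X' ⟶ G), C.cj hh (x ≫ g ≫ j) ≫ α = 1 := by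
  haveI : Mono j := Over.mono_of_mono_left _
  let φ : G ⊗ N ⟶ A := C.cj (fst G N) (snd G N ≫ j) ≫ α
  obtain ⟨Z, z, hz, hchar⟩ := H21Fix.exists_equalizer_of_essFree (Y := G) (T := N) (W := A)
    (H20EssFree.isEssentiallyFree_snd G.hom N.hom (H20EssFree.isEssentiallyFree_of_flat_artinian k G.hom)) φ 1
  haveI := hz
  haveI : Mono z := Over.mono_of_mono_left _
  have hφ : ∀ {X : Over (Spec (CommRingCat.of k))} (g : X ⟶ N) (hh : X ⟶ G),
      lift hh g ≫ φ = C.cj hh (g ≫ j) ≫ α := fun g hh => by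
    show lift hh g ≫ C.cj _ _ ≫ α = _
    rw [← Category.assoc, C.comp_cj, lift_fst, lift_snd_assoc]
  have hZ : ∀ {X : Over (Spec (CommRingCat.of k))} (g : X ⟶ N), (∃ w : X ⟶ Z, w ≫ z = g) ↔
      ∀ (X' : Over (Spec (CommRingCat.of k))) (x : X' ⟶ X) (hh : X' ⟶ G), C.cj hh (x ≫ g ≫ j) ≫ α = 1 := by
    intro X g
    rw [hchar]
    refine forall₃_congr fun X' x hh => ?_
    rw [hφ, MonObj.comp_one, Category.assoc]
  have hZ' : ∀ {X : Over (Spec (CommRingCat.of k))} (w : X ⟶ Z) (X' : Over (Spec (CommRingCat.of k))) (x : X' ⟶ X)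
      (hh : X' ⟶ G), C.cj hh (x ≫ (w ≫ z) ≫ j) ≫ α = 1 := fun w X' x hh => (hZ (w ≫ z)).1 ⟨w, rfl⟩ X' x hh
  let m : Z ⟶ G₀ := z ≫ j
  haveI : IsClosedImmersion m.left := by rw [Over.comp_left]; infer_instance
  haveI : Mono m := Over.mono_of_mono_left _
  obtain ⟨gZ, hgm⟩ : ∃ _ : GrpObj Z, IsMonHom m := by
    refine H19Grp.exists_grpObj_of_closed m ?_ (fun X a b => ?_) fun X a => ?_
    · obtain ⟨w, hw⟩ := (hZ (1 : 𝟙_ _ ⟶ N)).2 fun X' x hh => by
        rw [MonObj.one_comp, MonObj.comp_one, C.cj_one, MonObj.one_comp]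
      exact ⟨w, by rw [← Category.assoc, hw, MonObj.one_comp]⟩
    · obtain ⟨w, hw⟩ := (hZ ((a ≫ z) * (b ≫ z))).2 fun X' x hh => by
        rw [MonObj.mul_comp, MonObj.comp_mul, C.cj_mul, MonObj.mul_comp, hZ' a, hZ' b, _root_.one_mul]
      exact ⟨w, by rw [← Category.assoc, hw, MonObj.mul_comp, Category.assoc, Category.assoc]⟩
    · obtain ⟨w, hw⟩ := (hZ (a ≫ z)⁻¹).2 fun X' x hh => by
        rw [GrpObj.inv_comp, GrpObj.comp_inv, C.cj_inv, GrpObj.inv_comp, hZ' a, inv_one]
      exact ⟨w, by rw [← Category.assoc, hw, GrpObj.inv_comp, Category.assoc]⟩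
  haveI := hgm
  have hm1 : ∀ {X : Over (Spec (CommRingCat.of k))} (a : X ⟶ Z), (a ≫ m) ≫ α = 1 := fun a => by
    simp only [m, Category.assoc, H19Grp.kernel_comp_eq_one hN, MonObj.comp_one]
  have hmn : AlgGrp.IsNormalHom m := by
    intro X g a
    obtain ⟨n', hn'⟩ := H19Grp.kernel_lift hN (g * (a ≫ m) * g⁻¹) (by
      rw [MonObj.mul_comp, MonObj.mul_comp, GrpObj.inv_comp, hm1, _root_.mul_one, mul_inv_cancel])
    obtain ⟨w, hw⟩ := (hZ n').2 fun X' x hh => by
      rw [hn', ← C.cj_incl, C.comp_cj, C.cj_cj, show x ≫ a ≫ m = x ≫ (a ≫ z) ≫ j from by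
        simp only [m, Category.assoc]]
      exact hZ' a X' x _
    exact ⟨w, by rw [← hn', ← hw, Category.assoc]⟩
  exact ⟨Z, gZ, z, hgm, inferInstance, hmn, hZ⟩

/-- Finitely many translates of an open subgroup cover a group over an algebraically closed field. -/
theorem exists_cover {K : Type u} [Field K] [IsAlgClosed K] {G H : Over (Spec (CommRingCat.of K))} [GrpObj G]
    [GrpObj H] [LocallyOfFiniteType G.hom] [QuasiCompact G.hom] (i : H ⟶ G) [IsMonHom i] [IsOpenImmersion i.left] :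
    ∃ s : Finset (𝟙_ (Over (Spec (CommRingCat.of K))) ⟶ G), ∀ p : G.left, ∃ g ∈ s,
      (𝟙 G * (toUnit G ≫ g⁻¹)).left p ∈ Set.range i.left := by
  haveI : CompactSpace G.left := QuasiCompact.compactSpace_of_compactSpace G.hom
  haveI : LocallyOfFiniteType H.hom := by rw [← Over.w i]; infer_instance
  obtain ⟨s, hs⟩ := H19Chev.finite_classes i (pnt_one_mem i)
  refine ⟨s, ?_⟩
  haveI : JacobsonSpace G.left := LocallyOfFiniteType.jacobsonSpace G.hom
  let U : Set G.left := ⋃ g ∈ s,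
    (𝟙 _ * (toUnit _ ≫ g⁻¹) : G ⟶ _).left ⁻¹' Set.range i.left
  have hU : IsOpen U := isOpen_biUnion fun g _ => i.left.isOpenEmbedding.isOpen_range.preimage
    (𝟙 _ * (toUnit _ ≫ g⁻¹) : G ⟶ _).left.continuous
  intro p
  by_contra hp
  obtain ⟨p', hp', hp'c⟩ := nonempty_inter_closedPoints (Z := Uᶜ) ⟨p, by
    simpa [U] using fun g hg hm => hp ⟨g, hg, hm⟩⟩ hU.isClosed_compl.isLocallyClosed
  obtain ⟨x, rfl⟩ := Stab.exists_pnt hp'c
  obtain ⟨g, hg, a, ha⟩ := hs x
  refine hp' (Set.mem_biUnion hg ⟨Stab.pnt a, ?_⟩)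
  show i.left (a.left _) = (𝟙 _ * (toUnit _ ≫ g⁻¹) : G ⟶ _).left (x.left _)
  rw [← Scheme.Hom.comp_apply, ← Scheme.Hom.comp_apply, ← Over.comp_left, ← Over.comp_left, ha, MonObj.comp_mul,
    Category.comp_id, ← Category.assoc x, comp_toUnit, toUnit_unique (toUnit _) (𝟙 _), Category.id_comp]

/-- A group with a kernel-free homomorphism to a proper group after a base change is proper. -/
theorem isProper_of_char {K : Type u} [Field K] {G₀ Q P : Over (Spec (CommRingCat.of K))} [GrpObj G₀] [GrpObj Q]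
    [GrpObj P] [LocallyOfFiniteType Q.hom] [QuasiCompact Q.hom] [IsProper P.hom] (q : G₀ ⟶ Q) [IsMonHom q]
    [Flat q.left] [Surjective q.left] [LocallyOfFinitePresentation q.left] [QuasiCompact q.left] (f : G₀ ⟶ P)
    [IsMonHom f] (hle : ∀ (X : Over (Spec (CommRingCat.of K))) (x : X ⟶ G₀), x ≫ f = 1 → x ≫ q = 1)
    (hge : ∀ (X : Over (Spec (CommRingCat.of K))) (x : X ⟶ G₀), x ≫ q = 1 → x ≫ f = 1) : IsProper Q.hom := by
  obtain ⟨χ, hχ, -⟩ := H19Grp.QuotientDesc.existsUnique_desc q f fun X a b hab => by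
    have h1 := hge X (a * b⁻¹) (by rw [MonObj.mul_comp, GrpObj.inv_comp, hab, mul_inv_cancel])
    rwa [MonObj.mul_comp, GrpObj.inv_comp, mul_inv_eq_one] at h1
  haveI : IsMonHom χ := by
    refine ⟨?_, ?_⟩
    · rw [← IsMonHom.one_hom (f := q), Category.assoc, hχ, IsMonHom.one_hom]
    · have := H19Grp.epi_tensorHom_of_fpqc q q
      rw [← cancel_epi (q ⊗ₘ q), ← IsMonHom.mul_hom_assoc, hχ, tensorHom_comp_tensorHom_assoc, hχ,
        IsMonHom.mul_hom]
  haveI : Mono χ := by
    refine ⟨fun {X} a b hab => ?_⟩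
    let d := a * b⁻¹
    have hd : d ≫ χ = 1 := by rw [MonObj.mul_comp, GrpObj.inv_comp, hab, mul_inv_cancel]
    let p := pullback.fst d.left q.left
    let X' : Over (Spec (CommRingCat.of K)) := Over.mk (p ≫ X.hom)
    let p' : X' ⟶ X := Over.homMk p rfl
    let e : X' ⟶ G₀ := Over.homMk (pullback.snd d.left q.left) (by
      show pullback.snd d.left q.left ≫ G₀.hom = p ≫ X.hom
      rw [← Over.w q, ← Over.w d, ← Category.assoc, ← pullback.condition, Category.assoc])
    have he : e ≫ q = p' ≫ d := Over.OverMorphism.ext pullback.condition.symm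
    have he' : e ≫ q = 1 := hle _ e (by rw [← hχ, ← Category.assoc, he, Category.assoc, hd, MonObj.comp_one])
    haveI : Flat p := inferInstance
    haveI : Surjective p := inferInstance
    haveI : QuasiCompact p := inferInstance
    haveI : Epi p := Flat.epi_of_flat_of_surjective p
    haveI : Epi p'.left := ‹Epi p›
    haveI : Epi p' := Over.epi_of_epi_left _
    have : d = 1 := by rw [← cancel_epi p', MonObj.comp_one, ← he, he']
    exact mul_inv_eq_one.1 this
  haveI : IsSeparated P.hom := inferInstance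
  haveI : QuasiCompact χ.left := by
    haveI : QuasiCompact (χ.left ≫ P.hom) := by rw [Over.w χ]; infer_instance
    exact .of_comp χ.left P.hom
  haveI : Mono χ.left := CategoryTheory.Over.mono_left_of_mono χ
  haveI : IsClosedImmersion χ.left := H19Grp.QuasiFiniteHom.isClosedImmersion_of_mono χ
  rw [← Over.w χ]; infer_instance

/-- The quotient by the core is proper. -/
theorem isProper_core [IsProper A.hom] (i₀ : G₀ ⟶ G) [IsMonHom i₀] [IsOpenImmersion i₀.left] [Mono i₀]
    [QuasiCompact i₀.left] (C : Conj i₀) (α : G₀ ⟶ A) [IsMonHom α]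
    {N : Over (Spec (CommRingCat.of k))} [GrpObj N] (j : N ⟶ G₀) [IsMonHom j] (hN : AlgGrp.IsKernel j α)
    {Z : Over (Spec (CommRingCat.of k))} [GrpObj Z] (z : Z ⟶ N)
    (hZ : ∀ {X : Over (Spec (CommRingCat.of k))} (g : X ⟶ N), (∃ w : X ⟶ Z, w ≫ z = g) ↔
      ∀ (X' : Over (Spec (CommRingCat.of k))) (x : X' ⟶ X) (hh : X' ⟶ G), C.cj hh (x ≫ g ≫ j) ≫ α = 1)
    {Q : Over (Spec (CommRingCat.of k))} [GrpObj Q] [LocallyOfFiniteType Q.hom] [QuasiCompact Q.hom] (q : G₀ ⟶ Q)
    [IsMonHom q] [Flat q.left] [Surjective q.left] [LocallyOfFinitePresentation q.left]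
    (hk : AlgGrp.IsKernel (z ≫ j) q) : IsProper Q.hom := by
  let K := AlgebraicClosure k
  let F := GeomTate.bc k K
  haveI := GeomTate.flat_σ k K
  haveI := GeomTate.surjective_σ k K
  haveI : LocallyOfFiniteType (F.obj G).hom :=
    inferInstanceAs (LocallyOfFiniteType (pullback.snd G.hom (GeomTate.σ k K)))
  haveI : QuasiCompact (F.obj G).hom := inferInstanceAs (QuasiCompact (pullback.snd G.hom (GeomTate.σ k K)))
  haveI : LocallyOfFiniteType (F.obj Q).hom :=
    inferInstanceAs (LocallyOfFiniteType (pullback.snd Q.hom (GeomTate.σ k K)))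
  haveI : QuasiCompact (F.obj Q).hom := inferInstanceAs (QuasiCompact (pullback.snd Q.hom (GeomTate.σ k K)))
  haveI : IsOpenImmersion (F.map i₀).left := MorphismProperty.overPullbackMap _ _ inferInstance
  haveI : IsMonHom (F.map i₀) := inferInstance
  obtain ⟨s, hcov⟩ := exists_cover (F.map i₀)
  obtain ⟨P, gP, f, hf, hP, hfchar⟩ := exists_gathered C α s
  haveI := hf; haveI := hP
  haveI : IsSeparated Q.hom := H19Grp.AffineQuotient.isSeparated_of_grp Q
  haveI : QuasiCompact q.left := by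
    haveI : QuasiCompact (q.left ≫ Q.hom) := by rw [Over.w q, ← Over.w i₀]; infer_instance
    exact .of_comp q.left Q.hom
  haveI : IsMonHom (F.map q) := inferInstance
  haveI : Surjective (F.map q).left := MorphismProperty.overPullbackMap _ _ inferInstance
  haveI : Flat (F.map q).left := MorphismProperty.overPullbackMap _ _ inferInstance
  haveI : LocallyOfFinitePresentation (F.map q).left := MorphismProperty.overPullbackMap _ _ inferInstance
  haveI : QuasiCompact (F.map q).left := MorphismProperty.overPullbackMap _ _ inferInstance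
  have hp : IsProper (F.obj Q).hom := isProper_of_char (F.map q) f (fun X x hx => by
    obtain ⟨hx0, hxs⟩ := (hfchar X x).1 hx
    obtain ⟨n', hn'⟩ := H19Grp.kernel_lift hN _ hx0
    obtain ⟨w, hw⟩ := (hZ n').2 fun X' y hh => by
      rw [hn']
      let X'' : Over (Spec (CommRingCat.of K)) := Over.mk (y.left ≫ X.hom)
      let t : X'' ⟶ X := Over.homMk y.left rfl
      let r : res (k := k) X'' ≅ X' := Over.isoMk (Iso.refl _) (by
        show 𝟙 _ ≫ X'.hom = (y.left ≫ X.hom) ≫ GeomTate.σ k K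
        rw [Category.id_comp, Category.assoc]
        exact (Over.w y).symm)
      have hr : r.hom ≫ y = (Over.map (GeomTate.σ k K)).map t :=
        Over.OverMorphism.ext (Category.id_comp y.left)
      rw [← cancel_epi r.hom, ← Category.assoc, C.comp_cj, MonObj.comp_one, ← Category.assoc, hr]
      refine cj_killed C α s hcov X'' _ (fun g hg => ?_) _
      rw [show toUnit X'' ≫ g = t ≫ toUnit X ≫ g by rw [← Category.assoc, comp_toUnit], pts_symm_left,
        ← C.comp_cj, Category.assoc, hxs g hg, MonObj.comp_one]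
    apply (pts X Q).symm.injective
    rw [pts_symm_map, ← hn', ← hw, Category.assoc, Category.assoc, ← Category.assoc z,
      H19Grp.kernel_comp_eq_one hk, MonObj.comp_one, pts_symm_one]
    ) (fun X x hx => by
    obtain ⟨w, hw⟩ := H19Grp.kernel_lift hk ((pts X G₀).symm x) (by rw [← pts_symm_map, hx, pts_symm_one])
    refine (hfchar X x).2 ⟨by rw [← hw]; exact (show (w ≫ z ≫ j) ≫ α = 1 by simp only [Category.assoc, H19Grp.kernel_comp_eq_one hN, MonObj.comp_one]), fun g _ => ?_⟩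
    have h1 := (hZ (w ≫ z)).1 ⟨w, rfl⟩ _ (𝟙 _) ((pts X G).symm (toUnit X ≫ g))
    rw [Category.id_comp, Category.assoc, hw] at h1
    exact h1)
  exact MorphismProperty.of_pullback_snd_of_descendsAlong (P := @IsProper) (Q := H18Descent.fpqc)
    (g := GeomTate.σ k K) ⟨⟨inferInstance, inferInstance⟩, inferInstance⟩ hp

/-- Conjugation by the whole group preserves the kernel of a homomorphism of the identity component to a
proper group, provided it is killed by every homomorphism to a proper group. -/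
theorem cj_comp_eq_one [IsProper A.hom] (i₀ : G₀ ⟶ G) [IsMonHom i₀] [IsOpenImmersion i₀.left]
    [IsClosedImmersion i₀.left] [Mono i₀] (C : Conj i₀) (α : G₀ ⟶ A) [IsMonHom α]
    {N : Over (Spec (CommRingCat.of k))} [GrpObj N] (j : N ⟶ G₀) [IsMonHom j] [IsClosedImmersion j.left]
    (hN : AlgGrp.IsKernel j α)
    (hmin : ∀ (Q' : Over (Spec (CommRingCat.of k))) [GrpObj Q'] [IsProper Q'.hom] (q' : G₀ ⟶ Q') [IsMonHom q'],
      j ≫ q' = 1)
    {T : Over (Spec (CommRingCat.of k))} (h : T ⟶ G) (n : T ⟶ N) : C.cj h (n ≫ j) ≫ α = 1 := by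
  haveI : LocallyOfFiniteType G₀.hom := by rw [← Over.w i₀]; infer_instance
  haveI : QuasiCompact G₀.hom := by rw [← Over.w i₀]; infer_instance
  haveI : Mono j := Over.mono_of_mono_left _
  obtain ⟨Z, gZ, z, hgm, hmc, hmn, hZ⟩ := exists_core i₀ C α j hN
  haveI := hgm; haveI := hmc
  let m : Z ⟶ G₀ := z ≫ j
  haveI : LocallyOfFiniteType Z.hom := by rw [← Over.w (z ≫ j)]; infer_instance
  haveI : QuasiCompact Z.hom := by rw [← Over.w (z ≫ j)]; infer_instance
  obtain ⟨Q, gQ, q, hq, hQl, hQq, hqf, hqs, hqp, hk⟩ := H19Quot.exists_quotientGroup (z ≫ j) hmn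
  haveI := hq; haveI := hQl; haveI := hQq; haveI := hqf; haveI := hqs; haveI := hqp
  haveI : IsProper Q.hom := isProper_core i₀ C α j hN z hZ q hk
  obtain ⟨w, hw⟩ := H19Grp.kernel_lift hk j (hmin Q q)
  have hwz : w ≫ z = 𝟙 N := by rw [← cancel_mono j, Category.assoc, hw, Category.id_comp]
  have h1 := (hZ (𝟙 N)).1 ⟨w, hwz⟩ T n h
  rwa [Category.id_comp] at h1

end Groth.Agent.H19Alb
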