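import Groth.Agent.H19Chev.MinProperQuotient

/-!
# Connected open subgroups are the identity component
-/

set_option autoImplicit false
set_option linter.style.haveILetI false
set_option backward.isDefEq.respectTransparency false
set_option maxHeartbeats 1000000
set_option synthInstance.maxHeartbeats 400000
universe u

open CategoryTheory CategoryTheory.Limits MonoidalCategory CartesianMonoidalCategory MonObj AlgebraicGeometry
open Groth.Agent Groth.Agent.H25AbCube Groth.Agent.H19Quot

noncomputable section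

namespace Groth.Agent.H19Alb

variable {k : Type u} [Field k]

local notation "Pts" X => 𝟙_ (Over (Spec (CommRingCat.of k))) ⟶ X

/-- The unit lies in the image of a subgroup. -/
theorem pnt_one_mem {G H : Over (Spec (CommRingCat.of k))} [GrpObj G] [GrpObj H] (i : H ⟶ G) [IsMonHom i] :
    Stab.pnt (1 : Pts G) ∈ Set.range i.left := by
  refine ⟨Stab.pnt (1 : Pts H), ?_⟩
  show i.left ((1 : Pts H).left _) = _
  rw [← Scheme.Hom.comp_apply, ← Over.comp_left, MonObj.one_comp]

/-- An open subgroup contains every connected subgroup. -/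
theorem range_subset_open_subgroup {G H L : Over (Spec (CommRingCat.of k))} [GrpObj G] [GrpObj H] [GrpObj L]
    (i : H ⟶ G) [IsMonHom i] [IsOpenImmersion i.left] [LocallyOfFiniteType L.hom] [ConnectedSpace L.left]
    (j : L ⟶ G) [IsMonHom j] : Set.range j.left ⊆ Set.range i.left := by
  haveI := H19Grp.geometricallyIrreducible_of_connectedSpace_group L
  rintro _ ⟨x, rfl⟩
  let π : (L ⊗ L).left ⟶ L.left := (snd L L).left
  haveI : GeometricallyIrreducible π := inferInstanceAs (GeometricallyIrreducible (pullback.snd L.hom L.hom))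
  let U : Set L.left := j.left ⁻¹' Set.range i.left
  have hU : IsOpen U := i.left.isOpenEmbedding.isOpen_range.preimage j.left.continuous
  have h1 : ∀ p : L.left, (1 : L ⟶ L).left p ∈ U := fun p => by
    refine ⟨(1 : L ⟶ H).left p, ?_⟩
    rw [← Scheme.Hom.comp_apply, ← Scheme.Hom.comp_apply, ← Over.comp_left, ← Over.comp_left, MonObj.one_comp,
      MonObj.one_comp]
  let m : L ⊗ L ⟶ L := fst L L * snd L L
  let s : L ⟶ L ⊗ L := lift 1 (𝟙 L)
  let s' : L ⟶ L ⊗ L := lift (𝟙 L)⁻¹ (𝟙 L)
  let W : (L ⊗ L).left.Opens := ⟨((fst L L).left ⁻¹' U) ∩ (m.left ⁻¹' U),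
    (hU.preimage (fst L L).left.continuous).inter (hU.preimage m.left.continuous)⟩
  have hirr : IsIrreducible (π ⁻¹' {x}) := by
    rw [← π.range_fiberι, ← Set.image_univ]
    exact (IrreducibleSpace.isIrreducible_univ _).image _ (π.fiberι x).continuous.continuousOn
  obtain ⟨w, hwπ, hw₁, hw₂⟩ := hirr.isPreirreducible _ _ (hU.preimage (fst L L).left.continuous)
    (hU.preimage m.left.continuous)
    ⟨s.left x, by
      show π (s.left x) = x
      rw [← Scheme.Hom.comp_apply, ← Over.comp_left, lift_snd, Over.id_left]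
      rfl, by
      show (fst L L).left (s.left x) ∈ U
      rw [← Scheme.Hom.comp_apply, ← Over.comp_left, lift_fst]
      exact h1 x⟩
    ⟨s'.left x, by
      show π (s'.left x) = x
      rw [← Scheme.Hom.comp_apply, ← Over.comp_left, lift_snd, Over.id_left]
      rfl, by
      show m.left (s'.left x) ∈ U
      rw [← Scheme.Hom.comp_apply, ← Over.comp_left,
        show s' ≫ m = 1 by rw [MonObj.comp_mul, lift_fst, lift_snd, inv_mul_cancel]]
      exact h1 x⟩
  let W' : Over (Spec (CommRingCat.of k)) := Over.mk (W.ι ≫ (L ⊗ L).hom)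
  let ιW : W' ⟶ L ⊗ L := Over.homMk W.ι rfl
  have hlift : ∀ t : L ⊗ L ⟶ L, (∀ p ∈ W, t.left p ∈ U) → ∃ a : W' ⟶ H, a ≫ i = ιW ≫ t ≫ j := by
    intro t ht
    have hsub : Set.range (ιW ≫ t ≫ j).left ⊆ Set.range i.left := by
      rintro _ ⟨p, rfl⟩
      exact ht (W.ι p) p.2
    refine ⟨Over.homMk (IsOpenImmersion.lift i.left (ιW ≫ t ≫ j).left hsub) ?_, ?_⟩
    · rw [← Over.w i, ← Category.assoc, IsOpenImmersion.lift_fac, Over.w (ιW ≫ t ≫ j)]
    · exact Over.OverMorphism.ext (IsOpenImmersion.lift_fac _ _ _)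
  obtain ⟨a, ha⟩ := hlift (fst L L) fun p hp => hp.1
  obtain ⟨b, hb⟩ := hlift m fun p hp => hp.2
  have key : (a⁻¹ * b) ≫ i = ιW ≫ snd L L ≫ j := by
    rw [MonObj.mul_comp, GrpObj.inv_comp, ha, hb, MonObj.mul_comp, MonObj.comp_mul, inv_mul_cancel_left]
  refine ⟨(a⁻¹ * b).left ⟨w, hw₁, hw₂⟩, ?_⟩
  rw [← Scheme.Hom.comp_apply, ← Over.comp_left, key]
  show j.left (π w) = j.left x
  rw [show π w = x from hwπ]

/-- A connected open subgroup of a group of finite type is closed. -/
theorem isClosedImmersion_of_open {G H : Over (Spec (CommRingCat.of k))} [GrpObj G] [GrpObj H]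
    [LocallyOfFiniteType G.hom] [QuasiCompact G.hom]
    (i : H ⟶ G) [IsMonHom i] [IsOpenImmersion i.left] [ConnectedSpace H.left] : IsClosedImmersion i.left := by
  obtain ⟨L, gL, l, hl, hlc, hlo, hLc, hLl, hLq, h1⟩ := H19Chev.exists_open_idComp G
  haveI := hl; haveI := hlc; haveI := hlo; haveI := hLc; haveI := hLl
  have hr : Set.range i.left = Set.range l.left :=
    (H19Chev.range_subset_idComp l h1 i (1 : Pts H) (MonObj.one_comp i)).antisymm (range_subset_open_subgroup i l)
  refine IsClosedImmersion.of_isPreimmersion i.left (hr ▸ ?_)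
  exact l.left.isClosedEmbedding.isClosed_range

end Groth.Agent.H19Alb
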