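import Groth.Agent.H19Alb.Open

/-!
# Properness of a quotient from a proper image of the identity component
-/

set_option autoImplicit false
set_option linter.style.haveILetI false
set_option backward.isDefEq.respectTransparency false
set_option maxHeartbeats 1000000
set_option synthInstance.maxHeartbeats 400000
universe u

open CategoryTheory CategoryTheory.Limits MonoidalCategory CartesianMonoidalCategory MonObj AlgebraicGeometry
open Groth.Agent Groth.Agent.H25AbCube Groth.Agent.H19Quot

noncomputable section

namespace Groth.Agent.H19Alb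

attribute [local instance] Functor.grpObjObj

variable {k : Type u} [Field k]

/-- A quotient in which the image of an open subgroup is proper is proper. -/
theorem isProper_quotient {G G₀ A Q : Over (Spec (CommRingCat.of k))} [GrpObj G] [GrpObj G₀] [GrpObj A] [GrpObj Q]
    [LocallyOfFiniteType G.hom] [QuasiCompact G.hom] [IsProper A.hom] [LocallyOfFiniteType Q.hom] [QuasiCompact Q.hom]
    (i₀ : G₀ ⟶ G) [IsMonHom i₀] [IsOpenImmersion i₀.left] (α : G₀ ⟶ A) (χ : A ⟶ Q) (q : G ⟶ Q) [IsMonHom q]
    [Surjective q.left] (hχ : α ≫ χ = i₀ ≫ q) : IsProper Q.hom := by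
  let K := AlgebraicClosure k
  let F := GeomTate.bc k K
  haveI := GeomTate.flat_σ k K
  haveI := GeomTate.surjective_σ k K
  haveI : LocallyOfFiniteType (F.obj G).hom :=
    inferInstanceAs (LocallyOfFiniteType (pullback.snd G.hom (GeomTate.σ k K)))
  haveI : QuasiCompact (F.obj G).hom := inferInstanceAs (QuasiCompact (pullback.snd G.hom (GeomTate.σ k K)))
  haveI : LocallyOfFiniteType (F.obj Q).hom :=
    inferInstanceAs (LocallyOfFiniteType (pullback.snd Q.hom (GeomTate.σ k K)))
  haveI : QuasiCompact (F.obj Q).hom := inferInstanceAs (QuasiCompact (pullback.snd Q.hom (GeomTate.σ k K)))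
  haveI : IsProper (F.obj A).hom := GeomTate.isProper_bc A
  haveI : IsOpenImmersion (F.map i₀).left := MorphismProperty.overPullbackMap _ _ inferInstance
  haveI : IsMonHom (F.map i₀) := inferInstance
  haveI : IsMonHom (F.map q) := inferInstance
  haveI : Surjective (F.map q).left := MorphismProperty.overPullbackMap _ _ inferInstance
  haveI : LocallyOfFiniteType (F.obj G₀).hom := by rw [← Over.w (F.map i₀)]; infer_instance
  haveI : CompactSpace (F.obj G).left := QuasiCompact.compactSpace_of_compactSpace (F.obj G).hom
  obtain ⟨t, ht⟩ := H19Chev.finite_classes (F.map i₀) (pnt_one_mem (F.map i₀))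
  have hp : IsProper (F.obj Q).hom := by
    classical
    refine H19Chev.isProper_of_translates (F.map χ) (t.image fun g => g ≫ F.map q) fun x => ?_
    obtain ⟨b, rfl⟩ := H19Chev.exists_pt_lift (F.map q) x
    obtain ⟨g, hg, c, hc⟩ := ht b
    refine ⟨g ≫ F.map q, Finset.mem_image_of_mem _ hg, c ≫ F.map α, ?_⟩
    rw [Category.assoc, ← Functor.map_comp, hχ, Functor.map_comp, ← Category.assoc, hc, MonObj.mul_comp,
      GrpObj.inv_comp]
  exact MorphismProperty.of_pullback_snd_of_descendsAlong (P := @IsProper) (Q := H18Descent.fpqc)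
    (g := GeomTate.σ k K) ⟨⟨inferInstance, inferInstance⟩, inferInstance⟩ hp

end Groth.Agent.H19Alb
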